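import Mathlib
import Cfsg.Agent.H357.ChebMid

/-!
# Tables of primes for the obstacle O1 of S4766 (helper301)
-/

set_option autoImplicit false
set_option maxRecDepth 20000

namespace Cfsg.Agent.H301.O1

open Finset Cfsg.Agent.H357.Cheb

/-! ### brute force over an interval -/

def run (T : ℕ → Bool) : ℕ → ℕ → Bool
  | 0, _ => true
  | k + 1, x => T x && run T k (x + 1)

theorem of_run {T : ℕ → Bool} : ∀ (k x : ℕ), run T k x = true → ∀ m, x ≤ m → m < x + k → T m = true
  | 0, x, _, m, h1, h2 => by omega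
  | k + 1, x, h, m, h1, h2 => by
    unfold run at h
    rw [Bool.and_eq_true] at h
    by_cases hm : m = x
    · rw [hm]; exact h.1
    · exact of_run k (x + 1) h.2 m (by omega) (by omega)

/-- a chain of intervals covering `[x, X)` -/
def chain {α : Type} (P : α → Bool) (T : α → ℕ → Bool) (X : ℕ) : ℕ → List (ℕ × α) → Bool
  | x, [] => Nat.ble X x
  | x, c :: l => P c.2 && run (T c.2) c.1 x && chain P T X (x + c.1) l

theorem of_chain {α : Type} {P : α → Bool} {T : α → ℕ → Bool} {X : ℕ} : ∀ (l : List (ℕ × α)) (x : ℕ),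
    chain P T X x l = true → ∀ m, x ≤ m → m < X → ∃ a : α, P a = true ∧ T a m = true
  | [], x, h, m, h1, h2 => by
    unfold chain at h
    rw [Nat.ble_eq] at h
    omega
  | c :: l, x, h, m, h1, h2 => by
    unfold chain at h
    rw [Bool.and_eq_true, Bool.and_eq_true] at h
    obtain ⟨⟨h3, h4⟩, h5⟩ := h
    by_cases hm : m < x + c.1
    · exact ⟨c.2, h3, of_run c.1 x h4 m h1 hm⟩
    · exact of_chain l (x + c.1) h5 m (by omega) h2

/-! ### three primes just below `m`, `271 ≤ m < 10000` -/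

def P2 (c : ℕ × ℕ × ℕ × ℕ) : Bool :=
  isP c.1 && isP c.2.1 && isP c.2.2.1 && isP c.2.2.2 && Nat.blt c.2.2.1 c.2.1 && Nat.blt c.2.1 c.1

def T2 (c : ℕ × ℕ × ℕ × ℕ) (m : ℕ) : Bool :=
  Nat.ble (c.1 + 2) m && Nat.ble ((2 * m + 2 - (c.2.1 + c.2.2.1)) ^ 2) (11 * m) && Nat.ble (4 * m + 3) (5 * c.2.2.1) &&
    Nat.blt m c.2.2.2 && Nat.ble (10 * c.2.2.2) (11 * m) &&
    Nat.blt (8 * m + 4 + 2 * c.2.2.2) (4 * (c.1 + c.2.1 + c.2.2.1))

def tab2 : List (ℕ × ℕ × ℕ × ℕ × ℕ) := [
  (17, 269, 263, 257, 293), (20, 283, 281, 277, 313), (3, 293, 283, 281, 337), (6, 307, 293, 283, 337),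
  (22, 313, 311, 307, 347), (16, 337, 331, 317, 367), (25, 353, 349, 347, 389), (15, 373, 367, 359, 409),
  (19, 389, 383, 379, 433), (19, 409, 401, 397, 449), (22, 431, 421, 419, 467), (22, 449, 443, 439, 499),
  (22, 467, 463, 461, 523), (21, 491, 487, 479, 547), (19, 509, 503, 499, 571), (14, 523, 521, 509, 587),
  (18, 547, 541, 523, 607), (29, 569, 563, 557, 619), (23, 593, 587, 577, 659), (34, 619, 617, 613, 683),
  (31, 653, 647, 643, 719), (31, 683, 677, 673, 751), (22, 709, 701, 691, 787), (35, 739, 733, 727, 811),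
  (36, 773, 769, 761, 853), (28, 809, 797, 787, 887), (33, 829, 827, 823, 919), (34, 863, 859, 857, 953),
  (25, 887, 883, 881, 997), (34, 929, 919, 911, 1021), (30, 953, 947, 941, 1061), (37, 991, 983, 977, 1093),
  (41, 1031, 1021, 1019, 1129), (43, 1069, 1063, 1061, 1181), (39, 1109, 1103, 1097, 1223),
  (41, 1153, 1151, 1129, 1259), (45, 1193, 1187, 1181, 1307), (47, 1237, 1231, 1229, 1361),
  (49, 1283, 1279, 1277, 1409), (43, 1327, 1321, 1319, 1471), (45, 1373, 1367, 1361, 1511),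
  (41, 1423, 1409, 1399, 1567), (49, 1459, 1453, 1451, 1613), (45, 1511, 1499, 1493, 1667),
  (56, 1559, 1553, 1549, 1709), (58, 1613, 1609, 1607, 1777), (59, 1669, 1667, 1663, 1831),
  (51, 1723, 1721, 1709, 1907), (54, 1783, 1777, 1759, 1951), (50, 1831, 1823, 1811, 2017),
  (59, 1879, 1877, 1873, 2069), (48, 1933, 1931, 1913, 2141), (62, 1993, 1987, 1979, 2179),
  (52, 2053, 2039, 2029, 2251), (55, 2099, 2089, 2087, 2311), (61, 2161, 2153, 2143, 2381),
  (63, 2221, 2213, 2207, 2447), (68, 2287, 2281, 2273, 2503), (68, 2351, 2347, 2341, 2591),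
  (71, 2423, 2417, 2411, 2663), (57, 2477, 2473, 2467, 2741), (78, 2551, 2549, 2543, 2803),
  (68, 2621, 2617, 2609, 2887), (76, 2693, 2689, 2687, 2963), (64, 2767, 2753, 2749, 3049),
  (76, 2837, 2833, 2819, 3121), (75, 2909, 2903, 2897, 3203), (67, 2971, 2969, 2963, 3271),
  (74, 3049, 3041, 3037, 3361), (76, 3121, 3119, 3109, 3433), (77, 3203, 3191, 3187, 3527),
  (70, 3271, 3259, 3257, 3607), (80, 3347, 3343, 3331, 3677), (63, 3413, 3407, 3391, 3769),
  (70, 3491, 3469, 3467, 3833), (85, 3559, 3557, 3547, 3923), (83, 3643, 3637, 3631, 4013),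
  (90, 3733, 3727, 3719, 4099), (90, 3823, 3821, 3803, 4201), (87, 3911, 3907, 3889, 4297),
  (60, 3989, 3967, 3947, 4397), (94, 4057, 4051, 4049, 4463), (88, 4153, 4139, 4133, 4567),
  (95, 4241, 4231, 4229, 4663), (83, 4337, 4327, 4297, 4759), (83, 4409, 4397, 4391, 4861),
  (89, 4493, 4483, 4481, 4951), (94, 4591, 4583, 4567, 5051), (94, 4679, 4673, 4663, 5153),
  (75, 4759, 4751, 4733, 5237), (74, 4831, 4817, 4813, 5333), (92, 4919, 4909, 4903, 5419),
  (105, 5021, 5011, 5009, 5521), (101, 5119, 5113, 5107, 5639), (94, 5227, 5209, 5197, 5749),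
  (99, 5309, 5303, 5297, 5851), (116, 5419, 5417, 5413, 5953), (110, 5531, 5527, 5521, 6091),
  (108, 5641, 5639, 5623, 6211), (113, 5749, 5743, 5741, 6329), (118, 5867, 5861, 5857, 6451),
  (88, 5981, 5953, 5939, 6581), (115, 6073, 6067, 6053, 6679), (98, 6173, 6163, 6151, 6803),
  (114, 6277, 6271, 6269, 6911), (115, 6397, 6389, 6379, 7039), (94, 6491, 6481, 6473, 7159),
  (114, 6607, 6599, 6581, 7253), (118, 6719, 6709, 6703, 7393), (126, 6841, 6833, 6829, 7523),
  (130, 6967, 6961, 6959, 7649), (104, 7079, 7069, 7057, 7793), (120, 7193, 7187, 7177, 7919),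
  (128, 7321, 7309, 7307, 8053), (107, 7433, 7417, 7411, 8191), (131, 7549, 7547, 7541, 8311),
  (134, 7687, 7681, 7673, 8447), (115, 7817, 7793, 7789, 8599), (133, 7933, 7927, 7919, 8731),
  (135, 8069, 8059, 8053, 8867), (120, 8191, 8179, 8171, 9013), (130, 8317, 8311, 8297, 9157),
  (134, 8447, 8443, 8431, 9293), (132, 8581, 8573, 8563, 9439), (144, 8719, 8713, 8707, 9587),
  (146, 8863, 8861, 8849, 9749), (146, 9007, 9001, 8999, 9907), (136, 9151, 9137, 9133, 10069),
  (146, 9283, 9281, 9277, 10223), (154, 9437, 9433, 9431, 10369), (118, 9587, 9551, 9547, 10531),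
  (136, 9697, 9689, 9679, 10667), (148, 9839, 9833, 9829, 10831), (128, 9973, 9967, 9949, 10993)]

theorem tab2_ok : chain P2 T2 10000 271 tab2 = true := by decide +kernel

/-! ### a prime very close to `m`, `271 ≤ m < 10000` -/

def P3 (q : ℕ) : Bool := isP q

def T3 (q m : ℕ) : Bool :=
  (Nat.blt (q + 1) m || Nat.blt m (q + 1)) && ((Nat.ble q m && Nat.ble (2 * (m - q + 1) ^ 2) m) || (Nat.blt m q && Nat.ble (2 * (q + 2 - m) ^ 2) m))

def tab3 : List (ℕ × ℕ) := [
  (9, 269), (9, 277), (6, 283), (10, 293), (9, 313), (9, 311), (9, 331), (6, 337), (12, 349), (10, 347),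
  (8, 367), (12, 379), (10, 389), (12, 401), (9, 397), (12, 409), (12, 421), (12, 433), (11, 443), (10, 467),
  (12, 479), (12, 491), (12, 503), (11, 499), (10, 509), (14, 523), (9, 547), (10, 557), (14, 571), (14, 569),
  (16, 601), (16, 617), (14, 631), (16, 647), (14, 661), (16, 677), (14, 691), (10, 701), (8, 709), (10, 719),
  (14, 733), (18, 751), (18, 769), (18, 787), (10, 797), (14, 811), (18, 829), (17, 827), (17, 863),
  (18, 881), (16, 877), (14, 911), (18, 929), (18, 947), (20, 967), (16, 983), (15, 977), (21, 1019),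
  (20, 1039), (15, 1033), (19, 1051), (20, 1093), (20, 1091), (18, 1109), (22, 1153), (21, 1151), (20, 1171),
  (23, 1217), (20, 1237), (22, 1259), (24, 1283), (24, 1307), (20, 1303), (18, 1321), (22, 1367), (19, 1361),
  (23, 1409), (24, 1433), (21, 1429), (25, 1453), (20, 1499), (24, 1523), (26, 1549), (22, 1571), (26, 1597),
  (24, 1621), (25, 1619), (23, 1669), (26, 1667), (28, 1723), (26, 1721), (28, 1777), (24, 1801), (22, 1823),
  (24, 1847), (26, 1873), (28, 1901), (17, 1889), (25, 1913), (30, 1973), (30, 2003), (26, 1999), (29, 2027),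
  (31, 2089), (29, 2087), (26, 2113), (30, 2143), (29, 2203), (18, 2221), (30, 2251), (30, 2281), (30, 2311),
  (31, 2309), (32, 2341), (30, 2371), (33, 2437), (30, 2467), (26, 2459), (28, 2521), (30, 2551), (32, 2549),
  (34, 2617), (30, 2647), (30, 2677), (34, 2711), (32, 2707), (34, 2741), (26, 2767), (34, 2801), (32, 2833),
  (34, 2903), (36, 2939), (32, 2971), (35, 2969), (35, 3041), (38, 3079), (30, 3109), (28, 3137), (32, 3169),
  (37, 3167), (36, 3203), (29, 3271), (36, 3307), (36, 3343), (30, 3373), (40, 3413), (36, 3449), (24, 3433),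
  (38, 3511), (36, 3547), (36, 3583), (40, 3623), (36, 3659), (38, 3697), (42, 3739), (40, 3779), (42, 3821),
  (42, 3863), (33, 3853), (36, 3889), (42, 3931), (39, 4013), (38, 4007), (42, 4049), (42, 4091), (42, 4133),
  (42, 4219), (43, 4217), (44, 4261), (43, 4349), (42, 4391), (32, 4423), (44, 4421), (46, 4513), (40, 4507),
  (44, 4597), (46, 4643), (43, 4639), (47, 4733), (43, 4729), (41, 4817), (44, 4813), (48, 4909), (48, 4957),
  (46, 5003), (48, 5051), (48, 5099), (48, 5147), (42, 5189), (48, 5237), (46, 5233), (50, 5333), (48, 5381),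
  (50, 5431), (48, 5479), (49, 5477), (50, 5527), (47, 5573), (50, 5623), (46, 5669), (48, 5717), (52, 5821),
  (48, 5869), (51, 5867), (36, 5903), (51, 6007), (46, 6053), (48, 6047), (50, 6151), (52, 6203), (54, 6257),
  (54, 6311), (50, 6361), (53, 6359), (55, 6469), (52, 6521), (56, 6577), (50, 6571), (52, 6679), (54, 6733),
  (48, 6781), (55, 6779), (54, 6833), (57, 6947), (54, 7001), (56, 7057), (52, 7109), (52, 7103), (58, 7219),
  (53, 7213), (59, 7331), (49, 7321), (53, 7433), (56, 7489), (60, 7549), (58, 7547), (56, 7603), (60, 7723),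
  (55, 7717), (51, 7829), (55, 7823), (61, 7883), (54, 7937), (60, 8059), (58, 8117), (62, 8179), (58, 8237),
  (60, 8297), (59, 8293), (63, 8419), (48, 8467), (60, 8527), (58, 8521), (62, 8647), (60, 8707), (57, 8699),
  (62, 8761), (61, 8887), (64, 8951), (62, 9013), (64, 9011), (60, 9137), (66, 9203), (63, 9199), (58, 9257),
  (67, 9391), (53, 9377), (67, 9511), (54, 9497), (66, 9631), (66, 9629), (60, 9689), (61, 9749), (69, 9887),
  (65, 9883), (66, 9949)]

theorem tab3_ok : chain P3 T3 10000 271 tab3 = true := by decide +kernel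

/-! ### six primes in `(4n/5, n]`, `10000 ≤ n < 60000` -/

def tab6 : List (ℕ × List ℕ) := [
  (12412, [9929, 9931, 9941, 9949, 9967, 9973]), (15467, [12373, 12377, 12379, 12391, 12401, 12409]),
  (19284, [15427, 15439, 15443, 15451, 15461, 15467]), (24039, [19231, 19237, 19249, 19259, 19267, 19273]),
  (29992, [23993, 24001, 24007, 24019, 24023, 24029]), (37402, [29921, 29927, 29947, 29959, 29983, 29989]),
  (46697, [37357, 37361, 37363, 37369, 37379, 37397]), (58312, [46649, 46663, 46679, 46681, 46687, 46691]),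
  (72787, [58229, 58231, 58237, 58243, 58271, 58309])]

/-- `l` is an increasing list of primes in `(y, x]` -/
def incr (x : ℕ) : ℕ → List ℕ → Bool
  | _, [] => true
  | y, t :: l => Nat.blt y t && Nat.ble t x && isP t && incr x t l

theorem of_incr {x : ℕ} : ∀ (l : List ℕ) (y : ℕ), incr x y l = true →
    l.Nodup ∧ ∀ t ∈ l, y < t ∧ t ≤ x ∧ t.Prime
  | [], y, _ => ⟨List.nodup_nil, fun t ht => absurd ht List.not_mem_nil⟩
  | t :: l, y, h => by
    unfold incr at h
    rw [Bool.and_eq_true, Bool.and_eq_true, Bool.and_eq_true, Nat.blt_eq, Nat.ble_eq] at h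
    obtain ⟨⟨⟨h1, h2⟩, h3⟩, h4⟩ := h
    obtain ⟨h5, h6⟩ := of_incr l t h4
    refine ⟨List.nodup_cons.2 ⟨fun ht => ?_, h5⟩, fun a ha => ?_⟩
    · have := (h6 t ht).1
      omega
    · rcases List.mem_cons.1 ha with rfl | ha
      · exact ⟨h1, h2, prime_of_isP h3⟩
      · obtain ⟨h7, h8, h9⟩ := h6 a ha
        exact ⟨by omega, h8, h9⟩

/-- entries `(b, l)`: for `x ≤ n < b` the list `l` consists of six primes in `(4n/5, n]` -/
def chk6 : ℕ → List (ℕ × List ℕ) → Bool
  | x, [] => Nat.ble 60000 x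
  | x, c :: l => incr x (4 * (c.1 - 1) / 5) c.2 && Nat.beq c.2.length 6 && chk6 c.1 l

theorem of_chk6 : ∀ (l : List (ℕ × List ℕ)) (x : ℕ), chk6 x l = true → ∀ n, x ≤ n → n < 60000 →
    6 ≤ ((Ioc (4 * n / 5) n).filter Nat.Prime).card
  | [], x, h, n, h1, h2 => by
    unfold chk6 at h
    rw [Nat.ble_eq] at h
    omega
  | c :: l, x, h, n, h1, h2 => by
    unfold chk6 at h
    rw [Bool.and_eq_true, Bool.and_eq_true, Nat.beq_eq] at h
    obtain ⟨⟨h3, h4⟩, h5⟩ := h
    by_cases hb : c.1 ≤ n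
    · exact of_chk6 l c.1 h5 n hb h2
    · obtain ⟨h6, h7⟩ := of_incr c.2 _ h3
      rw [← h4, ← List.toFinset_card_of_nodup h6]
      apply Finset.card_le_card
      intro t ht
      rw [List.mem_toFinset] at ht
      obtain ⟨h8, h9, h10⟩ := h7 t ht
      rw [mem_filter, mem_Ioc]
      exact ⟨⟨by omega, by omega⟩, h10⟩

theorem tab6_ok : chk6 10000 tab6 = true := by decide +kernel

end Cfsg.Agent.H301.O1
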