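import Mathlib
import Cfsg.Agent.H301.O1.Tab

/-!
# PRIMES for the obstacle O1 of S4766 (helper301)

* `six_primes` : six primes in `(4n/5, n]` for `n ≥ 10000`;
* `primes_large` (P1) : three primes below `m`, five primes above `m`, for `m ≥ 10000`;
* `primes_mid` (P2) : three primes just below `m` and one above, `271 ≤ m < 10000`;
* `prime_close` (P3) : one prime very close to `m`, `271 ≤ m < 10000`;
* `primes_all` : the common form for the shape theorem, `m ≥ 271`.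
-/

set_option autoImplicit false

namespace Cfsg.Agent.H301.O1

open Finset Cfsg.Agent.H357.Cheb

local notation "θ" => Chebyshev.theta

theorem six_large {n : ℕ} (hn : 60000 ≤ n) : 6 ≤ ((Ioc (4 * n / 5) n).filter Nat.Prime).card := by
  have hn' : (60000 : ℝ) ≤ n := by exact_mod_cast hn
  have h1 := theta_lower (m := n) (by omega)
  have h2 := psi_upper (n := 4 * n / 5) (by omega)
  have h3 := Chebyshev.theta_le_psi ((4 * n / 5 : ℕ) : ℝ)
  have h4 : ((4 * n / 5 : ℕ) : ℝ) ≤ 0.8 * (n : ℝ) := by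
    have := Nat.cast_div_le (α := ℝ) (m := 4 * n) (n := 5)
    push_cast at this
    linarith
  have h5 : Real.log ((4 * n / 5 : ℕ) : ℝ) ≤ Real.log n := by
    apply Real.log_le_log
    · have : 0 < 4 * n / 5 := by omega
      exact_mod_cast this
    · linarith
  have h6 := log_le_lin hn
  have h7 := sqrt_le_lin hn
  have h8 : 5 * Real.log n < θ n - θ (4 * n / 5 : ℕ) := by linarith
  rw [theta_sub (by omega)] at h8
  set P := (Ioc (4 * n / 5) n).filter Nat.Prime with hP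
  by_contra hc
  have h10 : ∑ t ∈ P, Real.log t ≤ ∑ t ∈ P, Real.log n := by
    refine sum_le_sum fun t ht => ?_
    rw [hP, mem_filter, mem_Ioc] at ht
    apply Real.log_le_log
    · exact_mod_cast ht.2.pos
    · exact_mod_cast ht.1.2
  rw [sum_const, nsmul_eq_mul] at h10
  have h11 : (P.card : ℝ) ≤ 5 := by
    have : P.card ≤ 5 := by omega
    exact_mod_cast this
  have h12 : 0 ≤ Real.log n := Real.log_nonneg (by linarith)
  nlinarith

/-- **Six primes in `(4n/5, n]`** for `n ≥ 10000`. -/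
theorem six_primes {n : ℕ} (hn : 10000 ≤ n) : 6 ≤ ((Ioc (4 * n / 5) n).filter Nat.Prime).card := by
  by_cases h : n < 60000
  · exact of_chk6 tab6 10000 tab6_ok n hn h
  · exact six_large (by omega)

theorem pick {S : Finset ℕ} {k : ℕ} (h : k + 1 ≤ S.card) : ∃ a ∈ S, k ≤ (S.filter (a < ·)).card := by
  have hne : S.Nonempty := by
    rw [← Finset.card_pos]
    omega
  refine ⟨S.min' hne, S.min'_mem hne, ?_⟩
  have h1 : S.erase (S.min' hne) ⊆ S.filter (S.min' hne < ·) := by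
    intro t ht
    rw [mem_erase] at ht
    rw [mem_filter]
    exact ⟨ht.2, lt_of_le_of_ne (S.min'_le t ht.2) (Ne.symm ht.1)⟩
  have h2 := Finset.card_le_card h1
  rw [Finset.card_erase_of_mem (S.min'_mem hne)] at h2
  omega

/-- odd primes differ by at least two -/
theorem add_two_le {p q : ℕ} (hp : p.Prime) (hq : q.Prime) (h : p < q) (h2 : 2 < p) : p + 2 ≤ q := by
  rcases hp.eq_two_or_odd with h3 | h3
  · omega
  rcases hq.eq_two_or_odd with h4 | h4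
  · omega
  omega

theorem below {m : ℕ} (hm : 10000 ≤ m) : ∃ p1 p2 p3 : ℕ, p1.Prime ∧ p2.Prime ∧ p3.Prime ∧ p3 < p2 ∧ p2 < p1 ∧
    p1 + 2 ≤ m ∧ 4 * m + 21 ≤ 5 * p3 := by
  have h0 := six_primes hm
  obtain ⟨a, ha, h1⟩ := pick h0
  obtain ⟨b, hb, h2⟩ := pick h1
  obtain ⟨c, hc, h3⟩ := pick h2
  obtain ⟨d, hd, h4⟩ := pick h3
  obtain ⟨e, he, h5⟩ := pick h4
  obtain ⟨f, hf, -⟩ := pick h5
  simp only [mem_filter, mem_Ioc] at ha hb hc hd he hf
  have ab := add_two_le ha.2 hb.1.2 hb.2 (by omega)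
  have bc := add_two_le hb.1.2 hc.1.1.2 hc.2 (by omega)
  have cd := add_two_le hc.1.1.2 hd.1.1.1.2 hd.2 (by omega)
  have de := add_two_le hd.1.1.1.2 he.1.1.1.1.2 he.2 (by omega)
  have ef := add_two_le he.1.1.1.1.2 hf.1.1.1.1.1.2 hf.2 (by omega)
  exact ⟨e, d, c, he.1.1.1.1.2, hd.1.1.1.2, hc.1.1.2, by omega, by omega, by omega, by omega⟩

theorem above {m : ℕ} (hm : 10000 ≤ m) : ∃ U : Finset ℕ, U.card = 5 ∧
    ∀ u ∈ U, u.Prime ∧ m < u ∧ 4 * u ≤ 5 * m := by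
  have h0 := six_primes (n := 5 * m / 4) (by omega)
  obtain ⟨a, ha, h1⟩ := pick h0
  obtain ⟨U, hU, hc⟩ := Finset.exists_subset_card_eq h1
  refine ⟨U, hc, fun u hu => ?_⟩
  have := hU hu
  simp only [mem_filter, mem_Ioc] at this ha
  exact ⟨this.1.2, by omega, by omega⟩

/-- **P1**: three primes `p3 < p2 < p1 ≤ m - 2` with `5 p3 ≥ 4 m + 3` and five primes in `(m, 5m/4]`, and the
numerical condition of the shape theorem, for `m ≥ 10000`. -/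
theorem primes_large {m : ℕ} (hm : 10000 ≤ m) : ∃ p1 p2 p3 : ℕ, p1.Prime ∧ p2.Prime ∧ p3.Prime ∧ p3 < p2 ∧ p2 < p1 ∧
    p1 + 2 ≤ m ∧ 4 * m + 3 ≤ 5 * p3 ∧ ∃ U : Finset ℕ, U.card = 5 ∧ (∀ u ∈ U, u.Prime ∧ m < u ∧ 4 * u ≤ 5 * m) ∧
      ∀ n : ℕ, n = 2 * m ∨ n = 2 * m + 1 →
        2 * (n : ℤ) + 2 * ∑ u ∈ U, (u : ℤ) < ((U.card : ℤ) + 1) * (2 * (p1 + p2 + p3) - n) := by
  obtain ⟨p1, p2, p3, h1, h2, h3, h4, h5, h6, h7⟩ := below hm
  obtain ⟨U, hU, hu⟩ := above hm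
  refine ⟨p1, p2, p3, h1, h2, h3, h4, h5, h6, by omega, U, hU, hu, fun n hn => ?_⟩
  have h8 : ∑ u ∈ U, 4 * (u : ℤ) ≤ ∑ u ∈ U, 5 * (m : ℤ) := by
    refine sum_le_sum fun u hu' => ?_
    have := (hu u hu').2.2
    omega
  rw [← mul_sum, sum_const, hU, nsmul_eq_mul] at h8
  rw [hU]
  push_cast at h8 ⊢
  rcases hn with rfl | rfl
  · push_cast; omega
  · push_cast; omega

/-- **P2**: three primes just below `m` and one prime above, `271 ≤ m < 10000`. -/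
theorem primes_mid {m : ℕ} (hm1 : 271 ≤ m) (hm2 : m < 10000) : ∃ p1 p2 p3 u : ℕ, p1.Prime ∧ p2.Prime ∧ p3.Prime ∧
    u.Prime ∧ p3 < p2 ∧ p2 < p1 ∧ p1 + 2 ≤ m ∧ 4 * m + 3 ≤ 5 * p3 ∧ (2 * m + 2 - p2 - p3) ^ 2 ≤ 11 * m ∧
      m < u ∧ 10 * u ≤ 11 * m ∧ 8 * m + 4 + 2 * u < 4 * (p1 + p2 + p3) := by
  obtain ⟨⟨p1, p2, p3, u⟩, hP, hT⟩ := of_chain tab2 271 tab2_ok m hm1 hm2
  unfold P2 at hP
  unfold T2 at hT
  simp only [Bool.and_eq_true, Nat.ble_eq, Nat.blt_eq] at hP hT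
  obtain ⟨⟨⟨⟨⟨h1, h2⟩, h3⟩, h4⟩, h5⟩, h6⟩ := hP
  obtain ⟨⟨⟨⟨⟨h7, h8⟩, h9⟩, h10⟩, h11⟩, h12⟩ := hT
  refine ⟨p1, p2, p3, u, prime_of_isP h1, prime_of_isP h2, prime_of_isP h3, prime_of_isP h4, h5, h6, h7, h9, ?_,
    h10, h11, h12⟩
  rw [Nat.sub_sub]
  exact h8

/-- **P3**: one prime very close to `m`, not `m - 1`, `271 ≤ m < 10000`. -/
theorem prime_close {m : ℕ} (hm1 : 271 ≤ m) (hm2 : m < 10000) : ∃ q : ℕ, q.Prime ∧ q ≠ m - 1 ∧
    ((q ≤ m ∧ 2 * (m - q + 1) ^ 2 ≤ m) ∨ (m < q ∧ 2 * (q + 2 - m) ^ 2 ≤ m)) := by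
  obtain ⟨q, hP, hT⟩ := of_chain tab3 271 tab3_ok m hm1 hm2
  unfold P3 at hP
  unfold T3 at hT
  simp only [Bool.and_eq_true, Bool.or_eq_true, Nat.ble_eq, Nat.blt_eq] at hT
  exact ⟨q, prime_of_isP hP, by omega, hT.2⟩

/-- The common form: for `m ≥ 271` three primes below `m` and a set `U` of primes in `(m, 5m/4]` satisfying the
numerical condition of the shape theorem; for `m < 10000` the three primes are close to `m`. -/
theorem primes_all {m : ℕ} (hm : 271 ≤ m) : ∃ p1 p2 p3 : ℕ, p1.Prime ∧ p2.Prime ∧ p3.Prime ∧ p3 < p2 ∧ p2 < p1 ∧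
    p1 + 2 ≤ m ∧ 4 * m + 3 ≤ 5 * p3 ∧ (m < 10000 → (2 * m + 2 - p2 - p3) ^ 2 ≤ 11 * m) ∧
    ∃ U : Finset ℕ, (∀ u ∈ U, u.Prime ∧ m < u ∧ 4 * u ≤ 5 * m) ∧
      ∀ n : ℕ, n = 2 * m ∨ n = 2 * m + 1 →
        2 * (n : ℤ) + 2 * ∑ u ∈ U, (u : ℤ) < ((U.card : ℤ) + 1) * (2 * (p1 + p2 + p3) - n) := by
  by_cases h : m < 10000
  · obtain ⟨p1, p2, p3, u, h1, h2, h3, h4, h5, h6, h7, h8, h9, h10, h11, h12⟩ := primes_mid hm h
    refine ⟨p1, p2, p3, h1, h2, h3, h5, h6, h7, h8, fun _ => h9, {u}, fun v hv => ?_, fun n hn => ?_⟩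
    · rw [Finset.mem_singleton] at hv
      subst hv
      exact ⟨h4, h10, by omega⟩
    · rw [Finset.sum_singleton, Finset.card_singleton]
      rcases hn with rfl | rfl
      · push_cast; omega
      · push_cast; omega
  · obtain ⟨p1, p2, p3, h1, h2, h3, h4, h5, h6, h7, U, -, hu, hs⟩ := primes_large (m := m) (by omega)
    exact ⟨p1, p2, p3, h1, h2, h3, h4, h5, h6, h7, fun h' => absurd h' h, U, hu, hs⟩

end Cfsg.Agent.H301.O1
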